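import Groth.Agent.Lib.RegColimit.Basic
import Groth.Agent.Lib.RegLoc.Criteria
import Mathlib.RingTheory.Ideal.Cotangent

/-!
# Parts of regular systems of parameters
-/

set_option autoImplicit false
universe u

open IsLocalRing

namespace GrothLib.RegColimit

/-- The quotient by elements independent modulo `m²` is regular of the expected dimension. -/
theorem quotient_of_indep : ∀ (r : ℕ) (R : Type u) [CommRing R] [IsRegularLocalRing R] (y : Fin r → R),
    (∀ i, y i ∈ maximalIdeal R) →
    (∀ c : Fin r → R, ∑ i, c i * y i ∈ maximalIdeal R ^ 2 → ∀ i, c i ∈ maximalIdeal R) →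
      IsRegularLocalRing (R ⧸ Ideal.span (Set.range y)) ∧
        ringKrullDim (R ⧸ Ideal.span (Set.range y)) + r = ringKrullDim R := by
  intro r
  induction r with
  | zero =>
    intro R _ _ y _ _
    have h0 : Ideal.span (Set.range y) = ⊥ := by rw [Set.range_eq_empty, Ideal.span_empty]
    let e : R ≃+* R ⧸ Ideal.span (Set.range y) :=
      (RingEquiv.quotientBot R).symm.trans (Ideal.quotEquivOfEq h0.symm)
    refine ⟨IsRegularLocalRing.of_ringEquiv e, ?_⟩
    rw [Nat.cast_zero, add_zero]
    exact (ringKrullDim_eq_of_ringEquiv e).symm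
  | succ r ih =>
    intro R _ _ y hy hind
    have hy2 : y 0 ∉ maximalIdeal R ^ 2 := fun h => by
      have := hind (Fin.cons 1 0) (by rw [Fin.sum_univ_succ]; simpa using h) 0
      rw [Fin.cons_zero] at this
      exact (maximalIdeal.isMaximal R).ne_top ((Ideal.eq_top_iff_one _).2 this)
    obtain ⟨hreg, hdim, -⟩ := GrothLib.RegLoc.quotient_isRegularLocalRing (hy 0) hy2
    haveI := hreg
    let S := R ⧸ Ideal.span {y 0}
    let z : Fin r → S := fun i => Ideal.Quotient.mk _ (y i.succ)
    obtain ⟨h1, h2⟩ := ih S z (fun i => by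
        rw [← GrothLib.RegLoc.map_maximalIdeal_quotient]
        exact Ideal.mem_map_of_mem _ (hy i.succ))
      fun c hc i => by
        choose d hd using fun j => Ideal.Quotient.mk_surjective (c j)
        rw [← GrothLib.RegLoc.map_maximalIdeal_quotient, ← Ideal.map_pow] at hc
        simp only [z, ← hd, ← map_mul, ← map_sum] at hc
        rw [Ideal.mem_quotient_iff_mem_sup, Submodule.mem_sup] at hc
        obtain ⟨a, ha, b, hb, hab⟩ := hc
        obtain ⟨e, rfl⟩ := Ideal.mem_span_singleton'.1 hb
        have := hind (Fin.cons (-e) d) (by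
          rw [Fin.sum_univ_succ]
          simp only [Fin.cons_zero, Fin.cons_succ]
          rw [← hab]
          convert ha using 1
          ring) i.succ
        rw [Fin.cons_succ] at this
        rw [← hd, ← GrothLib.RegLoc.map_maximalIdeal_quotient]
        exact Ideal.mem_map_of_mem _ this
    have hle : Ideal.span {y 0} ≤ Ideal.span (Set.range y) :=
      Ideal.span_mono (Set.singleton_subset_iff.2 ⟨0, rfl⟩)
    have hmap : (Ideal.span (Set.range y)).map (Ideal.Quotient.mk (Ideal.span {y 0})) = Ideal.span (Set.range z) := by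
      refine le_antisymm ?_ ?_
      · rw [Ideal.map_span, Ideal.span_le]
        rintro _ ⟨_, ⟨i, rfl⟩, rfl⟩
        cases i using Fin.cases with
        | zero => rw [Ideal.Quotient.eq_zero_iff_mem.2 (Ideal.mem_span_singleton_self _)]; exact Ideal.zero_mem _
        | succ i => exact Ideal.subset_span ⟨i, rfl⟩
      · rw [Ideal.span_le]
        rintro _ ⟨i, rfl⟩
        exact Ideal.mem_map_of_mem _ (Ideal.subset_span ⟨i.succ, rfl⟩)
    let e : (S ⧸ Ideal.span (Set.range z)) ≃+* R ⧸ Ideal.span (Set.range y) :=
      (Ideal.quotEquivOfEq hmap.symm).trans (DoubleQuot.quotQuotEquivQuotOfLE hle)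
    refine ⟨IsRegularLocalRing.of_ringEquiv e, ?_⟩
    rw [← ringKrullDim_eq_of_ringEquiv e, ← hdim, ← h2, Nat.cast_succ, add_assoc]

/-- EGA 0, 17.1.7. -/
theorem regular_indep_iff (A : Type u) [CommRing A] [IsLocalRing A] [IsNoetherianRing A] (r : ℕ)
    (x : Fin r → maximalIdeal A) :
    ((IsRegularLocalRing A ∧
        LinearIndependent (ResidueField A) (fun i => (maximalIdeal A).toCotangent (x i))) ↔
      (ringKrullDim (A ⧸ Ideal.span (Set.range fun i => (x i : A))) + r = ringKrullDim A ∧
        IsRegularLocalRing (A ⧸ Ideal.span (Set.range fun i => (x i : A))))) ∧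
    (IsRegularLocalRing (A ⧸ Ideal.span (Set.range fun i => (x i : A))) →
      ringKrullDim (A ⧸ Ideal.span (Set.range fun i => (x i : A))) + r = ringKrullDim A →
        (Ideal.span (Set.range fun i => (x i : A))).IsPrime) := by
  classical
  set I := Ideal.span (Set.range fun i => (x i : A))
  have hcot : ∀ c : Fin r → A, (∑ i, residue A (c i) • (maximalIdeal A).toCotangent (x i)) = 0 ↔
      ∑ i, c i * (x i : A) ∈ maximalIdeal A ^ 2 := fun c => by
    have e : (∑ i, residue A (c i) • (maximalIdeal A).toCotangent (x i)) =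
        (maximalIdeal A).toCotangent (∑ i, c i • x i) := by
      rw [map_sum]
      exact Finset.sum_congr rfl fun i _ => by rw [map_smul]; rfl
    rw [e, Ideal.toCotangent_eq_zero]
    simp [Submodule.coe_sum]
  refine ⟨⟨?_, ?_⟩, fun h _ => ?_⟩
  · rintro ⟨hA, hli⟩
    haveI := hA
    have h := quotient_of_indep r A (fun i => (x i : A)) (fun i => (x i).2) fun c hc i => by
      have h1 := Fintype.linearIndependent_iff.1 hli (fun i => residue A (c i)) ((hcot c).2 hc) i
      exact (residue_eq_zero_iff _).1 h1
    exact ⟨h.2, h.1⟩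
  · rintro ⟨hdim, hreg⟩
    haveI := hreg
    obtain ⟨w, hw⟩ := GrothLib.RegLoc.exists_generators_fin (maximalIdeal (A ⧸ I))
    obtain ⟨d, hd⟩ : ∃ d : ℕ, (maximalIdeal (A ⧸ I)).spanFinrank = d := ⟨_, rfl⟩
    have hdA : ((d + r : ℕ) : WithBot ℕ∞) = ringKrullDim A := by
      rw [← hdim, ← IsRegularLocalRing.spanFinrank_maximalIdeal, hd]; push_cast; rfl
    have hI : I.spanFinrank ≤ r := GrothLib.RegLoc.spanFinrank_le_of_span _ rfl
    have hle := GrothLib.RegLoc.spanFinrank_maximalIdeal_le_add I
    have hA : IsRegularLocalRing A := by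
      refine IsRegularLocalRing.of_spanFinrank_maximalIdeal_le A ?_
      rw [← hdA]
      exact_mod_cast (show (maximalIdeal A).spanFinrank ≤ d + r by omega)
    refine ⟨hA, Fintype.linearIndependent_iff.2 fun g hg i => ?_⟩
    choose c hc using fun i => residue_surjective (g i)
    have hsum := (hcot c).1 (by simpa [hc] using hg)
    choose g' hg' using Ideal.Quotient.mk_surjective (I := I)
    have hfr : (maximalIdeal A).spanFinrank = r + (maximalIdeal (A ⧸ I)).spanFinrank := by
      have := IsRegularLocalRing.spanFinrank_maximalIdeal (R := A)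
      rw [← hdA] at this
      have : (maximalIdeal A).spanFinrank = d + r := by exact_mod_cast this
      omega
    let v : Fin (r + (maximalIdeal (A ⧸ I)).spanFinrank) → A := Fin.append (fun i => (x i : A)) (g' ∘ w)
    have hv : Ideal.span (Set.range v) = maximalIdeal A := by
      have hIle : I ≤ Ideal.span (Set.range v) := Ideal.span_mono (by
        rintro _ ⟨j, rfl⟩
        exact ⟨Fin.castAdd _ j, Fin.append_left _ _ _⟩)
      have hImax : I ≤ maximalIdeal A := Ideal.span_le.2 (by rintro _ ⟨j, rfl⟩; exact (x j).2)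
      refine le_antisymm (Ideal.span_le.2 ?_) fun a ha => ?_
      · rintro _ ⟨j, rfl⟩
        induction j using Fin.addCases with
        | left j => simp only [v, Fin.append_left]; exact (x j).2
        | right j =>
          simp only [v, Fin.append_right, Function.comp_apply]
          intro hu
          have hu' := hu.map (Ideal.Quotient.mk I)
          rw [hg'] at hu'
          exact (mem_maximalIdeal _).1 (hw.le (Ideal.subset_span ⟨j, rfl⟩)) hu'
      · have h1 : Ideal.Quotient.mk I a ∈ (Ideal.span (Set.range v)).map (Ideal.Quotient.mk I) := by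
          refine (show maximalIdeal (A ⧸ I) ≤ _ from ?_) (GrothLib.RegLoc.map_maximalIdeal_quotient (R := A) I ▸ Ideal.mem_map_of_mem _ ha)
          refine hw.ge.trans (Ideal.span_le.2 ?_)
          rintro _ ⟨j, rfl⟩
          have : w j = Ideal.Quotient.mk I (v (Fin.natAdd r j)) := by simp [v, hg']
          rw [this]
          exact Ideal.mem_map_of_mem _ (Ideal.subset_span ⟨_, rfl⟩)
        rw [← Ideal.mem_comap, Ideal.comap_map_of_surjective _ Ideal.Quotient.mk_surjective,
          ← RingHom.ker_eq_comap_bot, Ideal.mk_ker, sup_eq_left.2 hIle] at h1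
        exact h1
    have h2 := indep_of_generators hfr v hv (Fin.append c 0) (by
      rw [Fin.sum_univ_add]
      simp only [v, Fin.append_left, Fin.append_right, Pi.zero_apply, zero_mul, Finset.sum_const_zero, add_zero]
      exact hsum) (Fin.castAdd _ i)
    rw [Fin.append_left] at h2
    rw [← hc i]
    exact (residue_eq_zero_iff _).2 h2
  · haveI := h
    haveI := GrothLib.CMFree.isDomain_of_isRegularLocalRing (A ⧸ I)
    exact (Ideal.Quotient.isDomain_iff_prime I).1 inferInstance

end GrothLib.RegColimit
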